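import Groth.Agent.Elkik27.Solve
import Mathlib.RingTheory.Etale.Basic
import Mathlib.RingTheory.Localization.Integer
import Mathlib.RingTheory.Localization.Ideal
import Mathlib.RingTheory.FiniteType

/-!
The witness of etaleness off a principal closed subscheme.
-/

set_option autoImplicit false

universe u

open MvPolynomial

namespace Groth.Agent.Elkik27

variable {A : Type u} [CommRing A] {n m : ℕ} {f : Fin m → MvPolynomial (Fin n) A}
variable {B : Type u} [CommRing B] [Algebra A B]

/-- Algebra maps out of a surjective image are built on the source. -/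
theorem exists_lift_of_surjective (π : MvPolynomial (Fin n) A →ₐ[A] B) (hπ : Function.Surjective π)
    (hker : RingHom.ker π = Ideal.span (Set.range f)) {T : Type u} [CommRing T] [Algebra A T]
    (φ : MvPolynomial (Fin n) A →ₐ[A] T) (hφ : ∀ j, φ (f j) = 0) :
    ∃ g : B →ₐ[A] T, ∀ p, g (π p) = φ p := by
  let e := Ideal.quotientKerAlgEquivOfSurjective hπ
  let g₀ : (MvPolynomial (Fin n) A ⧸ RingHom.ker π) →ₐ[A] T := Ideal.Quotient.liftₐ _ φ fun p hp => by
    rw [hker] at hp
    exact RingHom.mem_ker.mp (Ideal.span_le.mpr (by rintro _ ⟨j, rfl⟩; exact hφ j) hp)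
  refine ⟨g₀.comp e.symm.toAlgHom, fun p => ?_⟩
  change g₀ (e.symm (π p)) = φ p
  have h : e.symm (π p) = Ideal.Quotient.mk _ p := e.symm_apply_eq.mpr rfl
  rw [h]
  rfl

theorem exists_pow_common {ι : Type*} [Finite ι] (P : ι → ℕ → Prop)
    (mono : ∀ i k l, k ≤ l → P i k → P i l) (h : ∀ i, ∃ k, P i k) : ∃ k, ∀ i, P i k := by
  cases nonempty_fintype ι
  choose k hk using h
  exact ⟨Finset.univ.sup k, fun i => mono i _ _ (Finset.le_sup (Finset.mem_univ i)) (hk i)⟩

theorem pderiv_mem_of_mem_sq {K : Ideal (MvPolynomial (Fin n) A)} (i : Fin n)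
    {p : MvPolynomial (Fin n) A} (hp : p ∈ K ^ 2) : pderiv i p ∈ K := by
  rw [sq] at hp
  refine Submodule.mul_induction_on hp (fun u hu v hv => ?_) fun u v hu hv => ?_
  · rw [pderiv_mul]; exact add_mem (K.mul_mem_left _ hv) (K.mul_mem_right _ hu)
  · rw [map_add]; exact add_mem hu hv

theorem aeval_shift {S T : Type u} [CommRing S] [CommRing T] [Algebra A S] [Algebra A T] (φ : S →ₐ[A] T)
    (x : Fin n → S) (y : Fin n → T) {J : Ideal T} (hJ : J ^ 2 = ⊥) (hy : ∀ l, y l ∈ J)
    (p : MvPolynomial (Fin n) A) :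
    aeval (fun l => φ (x l) + y l) p = φ (aeval x p) + ∑ l, φ (aeval x (pderiv l p)) * y l := by
  have h := Hensel20.aeval_add_sub_mem (fun l => φ (x l)) y hy p
  rw [hJ, Submodule.mem_bot, sub_sub, sub_eq_zero] at h
  simp only [← Hensel20.jac_map.aux φ x] at h
  exact h

variable (π : MvPolynomial (Fin n) A →ₐ[A] B) (hπ : Function.Surjective π)
  (hker : RingHom.ker π = Ideal.span (Set.range f)) (a : A)

include hker in
theorem exists_pow_mul_mem {p : MvPolynomial (Fin n) A}
    (hp : algebraMap B (Localization.Away (algebraMap A B a)) (π p) = 0) :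
    ∃ k : ℕ, C a ^ k * p ∈ Ideal.span (Set.range f) := by
  obtain ⟨⟨_, k, rfl⟩, hk⟩ := (IsLocalization.map_eq_zero_iff (Submonoid.powers (algebraMap A B a))
    (Localization.Away (algebraMap A B a)) _).mp hp
  refine ⟨k, ?_⟩
  rw [← hker, RingHom.mem_ker, map_mul, map_pow, ← MvPolynomial.algebraMap_eq, AlgHom.commutes]
  exact hk

include hπ hker in
/-- Over an unramified localisation there are no infinitesimal motions of the point. -/
theorem eq_zero_of_unramified [Algebra.FormallyUnramified A (Localization.Away (algebraMap A B a))]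
    {T : Type u} [CommRing T] [Algebra A T] (φ : Localization.Away (algebraMap A B a) →ₐ[A] T)
    {J : Ideal T} (hJ : J ^ 2 = ⊥) (y : Fin n → T) (hy : ∀ l, y l ∈ J)
    (hlin : ∀ j, ∑ l, φ (algebraMap B _ (π (pderiv l (f j)))) * y l = 0) : ∀ l, y l = 0 := by
  classical
  let xb : Fin n → Localization.Away (algebraMap A B a) := fun l => algebraMap B _ (π (X l))
  have hq : ∀ p, aeval xb p = algebraMap B (Localization.Away (algebraMap A B a)) (π p) := fun p =>
    (AlgHom.congr_fun (aeval_unique ((IsScalarTower.toAlgHom A B (Localization.Away (algebraMap A B a))).comp π)) p).symm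
  have hsh : ∀ p, aeval (fun l => φ (xb l) + y l) p = φ (algebraMap B _ (π p)) +
      ∑ l, φ (algebraMap B _ (π (pderiv l p))) * y l := fun p => by
    rw [aeval_shift φ xb y hJ hy p]
    simp only [hq]
  obtain ⟨g₀, hg₀⟩ := exists_lift_of_surjective π hπ hker (aeval fun l => φ (xb l) + y l) fun j => by
    rw [hsh, hlin, RingHom.mem_ker.mp (hker.ge (Ideal.subset_span ⟨j, rfl⟩)), map_zero, map_zero, add_zero]
  have huu : ∀ z : Submonoid.powers (algebraMap A B a), IsUnit (g₀ z) := by
    rintro ⟨_, k, rfl⟩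
    rw [map_pow, AlgHom.commutes, ← φ.commutes, IsScalarTower.algebraMap_apply A B (Localization.Away (algebraMap A B a))]
    exact ((IsLocalization.Away.algebraMap_isUnit (algebraMap A B a)).map φ).pow k
  let g₂ : Localization.Away (algebraMap A B a) →ₐ[A] T :=
    IsLocalization.liftAlgHom (M := Submonoid.powers (algebraMap A B a)) (f := g₀) huu
  have hg₂ : ∀ p, g₂ (algebraMap B _ (π p)) = aeval (fun l => φ (xb l) + y l) p := fun p =>
    (IsLocalization.lift_eq _ (π p)).trans (hg₀ p)
  have heq : φ = g₂ := by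
    refine Algebra.FormallyUnramified.lift_unique J ⟨2, hJ⟩ _ _
      (IsLocalization.algHom_ext (Submonoid.powers (algebraMap A B a)) (AlgHom.ext fun b => ?_))
    obtain ⟨p, rfl⟩ := hπ b
    change Ideal.Quotient.mk J (φ (algebraMap B _ (π p))) = Ideal.Quotient.mk J (g₂ (algebraMap B _ (π p)))
    rw [hg₂, hsh, Ideal.Quotient.eq, sub_add_cancel_left]
    exact neg_mem (sum_mem fun l _ => J.mul_mem_left _ (hy l))
  intro l
  have h := AlgHom.congr_fun heq (algebraMap B _ (π (X l)))
  rw [hg₂, aeval_X] at h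
  exact left_eq_add.mp h

include hπ hker in
theorem exists_tangent [Algebra.FormallyUnramified A (Localization.Away (algebraMap A B a))] :
    ∃ (M : ℕ) (c : Fin n → Fin m → MvPolynomial (Fin n) A), ∀ i l,
      ∑ j, c i j * pderiv l (f j) - (if i = l then C a ^ M else 0) ∈ Ideal.span (Set.range f) := by
  classical
  let Ba := Localization.Away (algebraMap A B a)
  let q : MvPolynomial (Fin n) A →ₐ[A] Ba := (IsScalarTower.toAlgHom A B Ba).comp π
  let ρ : Fin m → MvPolynomial (Fin n) Ba := fun j => ∑ l, C (q (pderiv l (f j))) * X l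
  let Y : Ideal (MvPolynomial (Fin n) Ba) := Ideal.span (Set.range X)
  let K := Ideal.span (Set.range ρ) ⊔ Y ^ 2
  have hXK : ∀ i, X i ∈ K := fun i => by
    rw [← Ideal.Quotient.eq_zero_iff_mem]
    refine eq_zero_of_unramified π hπ hker a (T := MvPolynomial (Fin n) Ba ⧸ K)
      ((Ideal.Quotient.mkₐ A K).comp (IsScalarTower.toAlgHom A Ba (MvPolynomial (Fin n) Ba)))
      (J := Y.map (Ideal.Quotient.mk K)) ?_ (fun l => Ideal.Quotient.mk K (X l))
      (fun l => Ideal.mem_map_of_mem _ (Ideal.subset_span ⟨l, rfl⟩)) (fun j => ?_) i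
    · rw [← Ideal.map_pow, Ideal.map_eq_bot_iff_le_ker, Ideal.mk_ker]
      exact le_sup_right
    · have h0 : Ideal.Quotient.mk K (ρ j) = 0 :=
        Ideal.Quotient.eq_zero_iff_mem.mpr (Submodule.mem_sup_left (Ideal.subset_span ⟨j, rfl⟩))
      rw [← h0, map_sum]
      refine Finset.sum_congr rfl fun l _ => ?_
      rw [map_mul]
      rfl
  -- linear parts
  let d : Fin n → MvPolynomial (Fin n) Ba → Ba := fun l p => aeval (fun _ => (0 : Ba)) (pderiv l p)
  have hY : ∀ l, ∀ w ∈ Y ^ 2, d l w = 0 := by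
    intro l w hw
    have hY0 : ∀ u ∈ Y, aeval (fun _ => (0 : Ba)) u = 0 := fun u hu =>
      RingHom.mem_ker.mp (Ideal.span_le.mpr (by rintro _ ⟨i, rfl⟩; exact aeval_X _ i) hu)
    exact hY0 _ (pderiv_mem_of_mem_sq l hw)
  have hcoef : ∀ i, ∃ e : Fin m → Ba, ∀ l, ∑ j, e j * q (pderiv l (f j)) = if i = l then 1 else 0 := by
    intro i
    obtain ⟨u, hu', w, hw, huw⟩ := Submodule.mem_sup.mp (hXK i)
    obtain ⟨c, rfl⟩ := Ideal.mem_span_range_iff_exists_fun.mp hu'
    refine ⟨fun j => aeval (fun _ => (0 : Ba)) (c j), fun l => ?_⟩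
    have h := congrArg (d l) huw
    simp only [d, map_add, map_sum, pderiv_mul] at h
    have hw0 := hY l w hw
    simp only [d] at hw0
    rw [hw0, add_zero, pderiv_X] at h
    refine Eq.trans ?_ (h.trans ?_)
    · refine Finset.sum_congr rfl fun j _ => ?_
      simp [ρ, map_sum, pderiv_X, Pi.single_apply, Finset.sum_ite_eq', apply_ite (aeval fun _ => (0 : Ba))]
    · rw [Pi.single_apply]
      split_ifs with h1 h2 h2 <;> simp_all
  choose e he using hcoef
  obtain ⟨⟨_, M, rfl⟩, hM⟩ := IsLocalization.exist_integer_multiples_of_finite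
    (Submonoid.powers (algebraMap A B a)) (fun ij : Fin n × Fin m => e ij.1 ij.2)
  choose b hb using hM
  choose c hc using fun ij => hπ (b ij)
  have hzero : ∀ il : Fin n × Fin n, q (∑ j, c (il.1, j) * pderiv il.2 (f j) -
      if il.1 = il.2 then C a ^ M else 0) = 0 := by
    rintro ⟨i, l⟩
    rw [map_sub, map_sum, sub_eq_zero]
    have hcj : ∀ j, q (c (i, j)) = algebraMap A Ba a ^ M * e i j := fun j => by
      change algebraMap B Ba (π (c (i, j))) = _
      rw [hc, hb (i, j), Algebra.smul_def, map_pow, ← IsScalarTower.algebraMap_apply]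
    simp only [map_mul, hcj, mul_assoc, ← Finset.mul_sum, he i l]
    split_ifs
    · rw [mul_one, map_pow, ← MvPolynomial.algebraMap_eq, AlgHom.commutes]
    · rw [mul_zero, map_zero]
  obtain ⟨k, hk⟩ := exists_pow_common
    (fun (il : Fin n × Fin n) k => C a ^ k * (∑ j, c (il.1, j) * pderiv il.2 (f j) -
      if il.1 = il.2 then C a ^ M else 0) ∈ Ideal.span (Set.range f))
    (fun il k l hkl h => by
      obtain ⟨t, rfl⟩ := Nat.exists_eq_add_of_le hkl
      rw [pow_add, mul_comm (C a ^ k), mul_assoc]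
      exact Ideal.mul_mem_left _ _ h)
    fun il => exists_pow_mul_mem π hker a (hzero il)
  refine ⟨k + M, fun i j => C a ^ k * c (i, j), fun i l => ?_⟩
  have h := hk (i, l)
  convert h using 1
  rw [mul_sub, Finset.mul_sum, mul_ite, mul_zero, pow_add]
  simp only [mul_assoc]

include hπ hker in
/-- A smooth localisation lets the tautological point move to a solution modulo a square-zero ideal. -/
theorem exists_motion [Algebra.FormallySmooth A (Localization.Away (algebraMap A B a))]
    {T : Type u} [CommRing T] [Algebra A T] (ψ : MvPolynomial (Fin n) A →ₐ[A] T)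
    (hu : IsUnit (algebraMap A T a)) {N : Ideal T} (hN : N ^ 2 = ⊥) (hf : ∀ j, ψ (f j) ∈ N) :
    ∃ δ : Fin n → T, (∀ l, δ l ∈ N) ∧ ∀ j, ψ (f j) + ∑ l, ψ (pderiv l (f j)) * δ l = 0 := by
  classical
  obtain ⟨g₀, hg₀⟩ := exists_lift_of_surjective π hπ hker ((Ideal.Quotient.mkₐ A N).comp ψ)
    fun j => Ideal.Quotient.eq_zero_iff_mem.mpr (hf j)
  have huu : ∀ y : Submonoid.powers (algebraMap A B a), IsUnit (g₀ y) := by
    rintro ⟨_, k, rfl⟩
    rw [map_pow, AlgHom.commutes, IsScalarTower.algebraMap_apply A T (T ⧸ N)]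
    exact (hu.map _).pow k
  let g : Localization.Away (algebraMap A B a) →ₐ[A] T ⧸ N :=
    IsLocalization.liftAlgHom (M := Submonoid.powers (algebraMap A B a)) (f := g₀) huu
  obtain ⟨σ, hσ⟩ := Algebra.FormallySmooth.exists_lift N ⟨2, hN⟩ g
  let ξ : Fin n → T := fun l => σ (algebraMap B _ (π (X l)))
  have hδ : ∀ l, ξ l - ψ (X l) ∈ N := fun l => by
    rw [← Ideal.Quotient.eq]
    refine (AlgHom.congr_fun hσ (algebraMap B _ (π (X l)))).trans ((IsLocalization.lift_eq _ (π (X l))).trans ?_)
    exact hg₀ (X l)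
  refine ⟨fun l => ξ l - ψ (X l), hδ, fun j => ?_⟩
  have h0 : aeval ξ (f j) = 0 := by
    refine (AlgHom.congr_fun (aeval_unique (σ.comp ((IsScalarTower.toAlgHom A B
      (Localization.Away (algebraMap A B a))).comp π))) (f j)).symm.trans ?_
    change σ (algebraMap B _ (π (f j))) = 0
    rw [RingHom.mem_ker.mp (hker.ge (Ideal.subset_span ⟨j, rfl⟩)), map_zero, map_zero]
  have h := aeval_shift ψ (fun l => (X l : MvPolynomial (Fin n) A)) (fun l => ξ l - ψ (X l)) hN hδ (f j)
  simp only [add_sub_cancel, aeval_X_left_apply, h0] at h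
  exact h.symm

include hπ hker in
theorem exists_conormal [Algebra.FormallySmooth A (Localization.Away (algebraMap A B a))] :
    ∃ (N : ℕ) (L : Fin n → Fin m → MvPolynomial (Fin n) A), ∀ j,
      C a ^ N * f j - ∑ l, pderiv l (f j) * (∑ k, L l k * f k) ∈ Ideal.span (Set.range f) ^ 2 := by
  classical
  let P := MvPolynomial (Fin n) A
  let F : Ideal P := Ideal.span (Set.range f)
  let Pa := Localization.Away (C a : P)
  let S2 := Pa ⧸ (F.map (algebraMap P Pa)) ^ 2
  let ψ : P →ₐ[A] S2 := (Ideal.Quotient.mkₐ A _).comp (IsScalarTower.toAlgHom A P Pa)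
  obtain ⟨δ, hδ, hzero'⟩ := exists_motion π hπ hker a (T := Pa ⧸ (F.map (algebraMap P Pa)) ^ 2) ψ (by
      rw [← ψ.commutes a]
      change IsUnit (Ideal.Quotient.mk _ (algebraMap P Pa (C a)))
      exact (IsLocalization.Away.algebraMap_isUnit (C a : P)).map _)
    (N := (F.map (algebraMap P Pa)).map (Ideal.Quotient.mk _))
    ((Ideal.map_pow _ _ _).symm.trans (Ideal.map_quotient_self _))
    (fun j => Ideal.mem_map_of_mem _ (Ideal.mem_map_of_mem _ (Ideal.subset_span ⟨j, rfl⟩)))
  have hcoef : ∀ l, ∃ c : Fin m → S2, ∑ k, c k * ψ (f k) = δ l := fun l => by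
    have h := hδ l
    replace h : δ l ∈ Ideal.span (Set.range fun k => ψ (f k)) := by
      refine ((Ideal.map_map _ _).trans ((Ideal.map_span _ _).trans ?_)).le h
      rw [← Set.range_comp]
      rfl
    exact Ideal.mem_span_range_iff_exists_fun.mp h
  choose c hc using hcoef
  choose c' hc' using fun lk : Fin n × Fin m => Ideal.Quotient.mk_surjective (c lk.1 lk.2)
  obtain ⟨⟨_, M, rfl⟩, hM⟩ := IsLocalization.exist_integer_multiples_of_finite (Submonoid.powers (C a : P)) c'
  choose L hL using hM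
  have hψL : ∀ l k, ψ (L (l, k)) = ψ (C a ^ M) * c l k := fun l k => by
    change Ideal.Quotient.mk _ (algebraMap P Pa (L (l, k))) = Ideal.Quotient.mk _ (algebraMap P Pa (C a ^ M)) * _
    rw [← hc' (l, k), ← map_mul, hL (l, k), Algebra.smul_def]
  have hzero : ∀ j, ψ (C a ^ M * f j + ∑ l, pderiv l (f j) * ∑ k, L (l, k) * f k) = 0 := fun j => by
    simp only [map_add, map_mul, map_sum, hψL]
    have h' : ψ (f j) + ∑ l, ψ (pderiv l (f j)) * δ l = 0 := hzero' j
    have := congrArg (ψ (C a ^ M) * ·) h'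
    simp only [mul_add, mul_zero] at this
    rw [← this]
    congr 1
    rw [Finset.mul_sum]
    refine Finset.sum_congr rfl fun l _ => ?_
    rw [← hc l, mul_left_comm (ψ (C a ^ M))]
    congr 1
    rw [Finset.mul_sum]
    exact Finset.sum_congr rfl fun k _ => mul_assoc _ _ _
  have hk : ∀ j, ∃ k : ℕ, C a ^ k * (C a ^ M * f j + ∑ l, pderiv l (f j) * ∑ k, L (l, k) * f k) ∈ F ^ 2 := by
    intro j
    have h := hzero j
    change Ideal.Quotient.mk _ (algebraMap P Pa _) = 0 at h
    rw [Ideal.Quotient.eq_zero_iff_mem, ← Ideal.map_pow] at h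
    obtain ⟨_, ⟨k, rfl⟩, hk⟩ :=
      (IsLocalization.algebraMap_mem_map_algebraMap_iff (Submonoid.powers (C a : P)) Pa _ _).mp h
    exact ⟨k, hk⟩
  obtain ⟨k, hk⟩ := exists_pow_common
    (fun j k => C a ^ k * (C a ^ M * f j + ∑ l, pderiv l (f j) * ∑ k, L (l, k) * f k) ∈ F ^ 2)
    (fun j k l hkl h => by
      obtain ⟨t, rfl⟩ := Nat.exists_eq_add_of_le hkl
      rw [pow_add, mul_comm (C a ^ k), mul_assoc]
      exact Ideal.mul_mem_left _ _ h) hk
  refine ⟨k + M, fun l k' => -(C a ^ k * L (l, k')), fun j => ?_⟩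
  convert hk j using 1
  rw [mul_add, pow_add, Finset.mul_sum, sub_eq_add_neg, ← Finset.sum_neg_distrib, mul_assoc]
  congr 1
  refine Finset.sum_congr rfl fun l _ => ?_
  rw [← mul_neg, mul_left_comm]
  congr 1
  rw [Finset.mul_sum, ← Finset.sum_neg_distrib]
  exact Finset.sum_congr rfl fun k' _ => by ring

include hπ hker in
/-- A finite type algebra etale where `a` is invertible carries a witness. -/
theorem nonempty_datum [Algebra.Etale A (Localization.Away (algebraMap A B a))] : Nonempty (Datum f a) := by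
  classical
  obtain ⟨N, L, hL⟩ := exists_conormal π hπ hker a
  obtain ⟨M, c, hc⟩ := exists_tangent π hπ hker a
  let F := Ideal.span (Set.range f)
  -- differentiate the conormal identity
  have hd : ∀ j i, ∑ l, pderiv l (f j) * (∑ k, L l k * pderiv i (f k) -
      if l = i then C a ^ N else 0) ∈ F := by
    intro j i
    have h := pderiv_mem_of_mem_sq i (hL j)
    simp only [map_sub, map_sum, pderiv_mul, map_pow, pderiv_C, zero_mul, zero_add,
      Derivation.leibniz_pow, smul_zero, mul_zero] at h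
    have hfF : ∀ k, f k ∈ F := fun k => Ideal.subset_span ⟨k, rfl⟩
    have hrest : ∑ l, pderiv i (pderiv l (f j)) * (∑ k, L l k * f k) +
        ∑ l, pderiv l (f j) * (∑ k, pderiv i (L l k) * f k) ∈ F :=
      add_mem (sum_mem fun l _ => F.mul_mem_left _ (sum_mem fun k _ => F.mul_mem_left _ (hfF k)))
        (sum_mem fun l _ => F.mul_mem_left _ (sum_mem fun k _ => F.mul_mem_left _ (hfF k)))
    have h' := neg_mem (add_mem h hrest)
    convert h' using 1
    simp only [mul_sub, mul_ite, mul_zero, Finset.sum_sub_distrib, Finset.sum_ite_eq', Finset.mem_univ,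
      if_true, Finset.sum_add_distrib, mul_add]
    ring
  refine ⟨{ L := fun l k => C a ^ M * L l k, N := M + N, conormal := fun j => ?_, tangent := fun i l => ?_ }⟩
  · convert Ideal.mul_mem_left _ (C a ^ M) (hL j) using 1
    rw [pow_add, mul_assoc, mul_sub, Finset.mul_sum]
    congr 1
    refine Finset.sum_congr rfl fun l _ => ?_
    rw [mul_left_comm]
    congr 1
    rw [Finset.mul_sum]
    exact Finset.sum_congr rfl fun k _ => mul_assoc _ _ _
  · let u : Fin n → MvPolynomial (Fin n) A := fun p =>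
      ∑ k, L p k * pderiv l (f k) - if p = l then C a ^ N else 0
    have h1 : ∑ p, (∑ j, c i j * pderiv p (f j)) * u p ∈ F := by
      simp only [Finset.sum_mul]
      rw [Finset.sum_comm]
      simp only [mul_assoc, ← Finset.mul_sum]
      exact sum_mem fun j _ => F.mul_mem_left _ (hd j l)
    have h2 : ∑ p, (∑ j, c i j * pderiv p (f j) - if i = p then C a ^ M else 0) * u p ∈ F :=
      sum_mem fun p _ => F.mul_mem_right _ (hc i p)
    have h3 := sub_mem h1 h2
    rw [← Finset.sum_sub_distrib] at h3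
    convert h3 using 1
    simp only [← sub_mul, sub_sub_cancel, ite_mul, zero_mul, Finset.sum_ite_eq, Finset.mem_univ, if_true]
    simp only [u, mul_sub, Finset.mul_sum, mul_assoc, mul_ite, mul_zero, pow_add]

end Groth.Agent.Elkik27
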