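import Groth.Agent.Hensel20.Jacobian
import Groth.Agent.Hens22.Integral
import Mathlib.RingTheory.Filtration
import Mathlib.RingTheory.Nakayama
import Mathlib.RingTheory.Noetherian.Basic

/-!
Elkik's approximation lemma for systems that are etale off the closed subscheme of a henselian pair,
and rigidity of the solutions.
-/

set_option autoImplicit false

universe u

open MvPolynomial

namespace Groth.Agent.Elkik27

variable {A : Type u} [CommRing A] {n m : ℕ}

/-- Witness that the system `f` is etale where `a` is invertible: `L` inverts the Jacobian up to `a ^ N`,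
on the zero locus and on the conormal module. -/
structure Datum (f : Fin m → MvPolynomial (Fin n) A) (a : A) where
  L : Fin n → Fin m → MvPolynomial (Fin n) A
  N : ℕ
  conormal : ∀ j, C a ^ N * f j - ∑ l, pderiv l (f j) * (∑ k, L l k * f k) ∈ Ideal.span (Set.range f) ^ 2
  tangent : ∀ i l, ∑ j, L i j * pderiv l (f j) - (if i = l then C a ^ N else 0) ∈ Ideal.span (Set.range f)

variable {R : Type u} [CommRing R] [Algebra A R] (f : Fin m → MvPolynomial (Fin n) A)

/-- The ideal of the values of the system. -/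
abbrev valIdeal (x : Fin n → R) : Ideal R := Ideal.span (Set.range fun j => aeval x (f j))

theorem aeval_mem_valIdeal {x : Fin n → R} {p : MvPolynomial (Fin n) A}
    (hp : p ∈ Ideal.span (Set.range f)) : aeval x p ∈ valIdeal f x := by
  have h := Ideal.mem_map_of_mem (aeval x).toRingHom hp
  rw [Ideal.map_span, ← Set.range_comp] at h
  exact h

theorem aeval_mem_valIdeal_sq {x : Fin n → R} {p : MvPolynomial (Fin n) A}
    (hp : p ∈ Ideal.span (Set.range f) ^ 2) : aeval x p ∈ valIdeal f x ^ 2 := by
  have h := Ideal.mem_map_of_mem (aeval x).toRingHom hp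
  rw [Ideal.map_pow, Ideal.map_span, ← Set.range_comp] at h
  exact h

theorem aeval_sub_mem {D : Ideal R} {x y : Fin n → R} (h : ∀ l, y l - x l ∈ D)
    (p : MvPolynomial (Fin n) A) : aeval y p - aeval x p ∈ D := by
  induction p using MvPolynomial.induction_on with
  | C a => simp
  | add p q hp hq => rw [map_add, map_add, add_sub_add_comm]; exact add_mem hp hq
  | mul_X p l hp =>
    rw [map_mul, map_mul, aeval_X, aeval_X,
      show aeval y p * y l - aeval x p * x l = (aeval y p - aeval x p) * y l + aeval x p * (y l - x l) by ring]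
    exact add_mem (Ideal.mul_mem_right _ _ hp) (Ideal.mul_mem_left _ _ (h l))

variable {f}

theorem Datum.conormal_eval {a : A} (dat : Datum f a) (x : Fin n → R) (j : Fin m) :
    algebraMap A R a ^ dat.N * aeval x (f j) -
      ∑ l, aeval x (pderiv l (f j)) * (∑ k, aeval x (dat.L l k) * aeval x (f k)) ∈ valIdeal f x ^ 2 := by
  have h := aeval_mem_valIdeal_sq (R := R) f (x := x) (dat.conormal j)
  simpa only [map_sub, map_mul, map_pow, aeval_C, map_sum] using h

theorem Datum.tangent_eval {a : A} (dat : Datum f a) (x : Fin n → R) (i l : Fin n) :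
    ∑ j, aeval x (dat.L i j) * aeval x (pderiv l (f j)) -
      (if i = l then algebraMap A R a ^ dat.N else 0) ∈ valIdeal f x := by
  have h := aeval_mem_valIdeal (R := R) f (x := x) (dat.tangent i l)
  rw [map_sub, map_sum] at h
  simp only [map_mul] at h
  convert h using 2
  split_ifs <;> simp

theorem exists_pow_ann [IsNoetherianRing R] (α : R) :
    ∃ c : ℕ, ∀ (i : ℕ) (y : R), α ^ i * y = 0 → α ^ c * y = 0 := by
  let g : ℕ →o Submodule R R :=
    { toFun := fun i => LinearMap.ker (LinearMap.lsmul R R (α ^ i))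
      monotone' := fun i j hij y hy => by
        obtain ⟨d, rfl⟩ := Nat.exists_eq_add_of_le hij
        simp only [LinearMap.mem_ker, LinearMap.lsmul_apply, smul_eq_mul] at hy ⊢
        rw [pow_add, mul_comm (α ^ i), mul_assoc, hy, mul_zero] }
  obtain ⟨c, hc⟩ := monotone_stabilizes_iff_noetherian.mpr (inferInstance : IsNoetherian R R) g
  refine ⟨c, fun i y hy => ?_⟩
  have h1 : y ∈ g (max i c) := g.monotone (le_max_left i c) (by simpa [g] using hy)
  rw [← hc _ (le_max_right i c)] at h1
  simpa [g] using h1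

/-- A system congruent to the identity has a root. -/
theorem exists_root_linearised {α : R} [HenselianRing R (Ideal.span {α})] (b : Fin n → R)
    (W : Fin n → MvPolynomial (Fin n) R) :
    ∃ h : Fin n → R, ∀ i, aeval h (X i + C (b i) + C α * W i) = 0 := by
  classical
  obtain ⟨h, hG, -⟩ := Hensel20.exists_root_of_jacobian (I := Ideal.span {α})
    (fun i => X i + C (b i) + C α * W i) (fun i => -b i)
    (fun i => by
      simp only [map_add, aeval_X, aeval_C, map_mul, Algebra.algebraMap_self, RingHom.id_apply,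
        neg_add_cancel, zero_add]
      exact Ideal.mul_mem_right _ _ (Ideal.mem_span_singleton_self α))
    (by
      rw [RingHom.map_det]
      have : (Ideal.Quotient.mk (Ideal.span {α})).mapMatrix (Hensel20.jac (fun i => X i + C (b i) + C α * W i) fun i => -b i) = 1 := by
        ext i l
        have hα : Ideal.Quotient.mk (Ideal.span {α}) α = 0 :=
          Ideal.Quotient.eq_zero_iff_mem.mpr (Ideal.mem_span_singleton_self α)
        simp only [RingHom.mapMatrix_apply, Matrix.map_apply, Hensel20.jac, Matrix.of_apply, map_add,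
          pderiv_C, pderiv_C_mul, map_mul, aeval_C, Algebra.algebraMap_self, RingHom.id_apply, hα,
          zero_mul, add_zero, pderiv_X, map_zero, smul_eq_mul]
        rw [Matrix.one_apply, Pi.single_apply]
        split_ifs with h1 h2 h2 <;> simp_all
      rw [this, Matrix.det_one]
      exact isUnit_one)
  exact ⟨h, hG⟩

/-- Newton step: after left multiplication by the approximate inverse of the Jacobian the system has an
exact root nearby. -/
theorem exists_left_solution {a : A} (dat : Datum f a)
    [HenselianRing R (Ideal.span {algebraMap A R a})] (s : ℕ) (hs : dat.N + 1 ≤ s) (x₀ : Fin n → R)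
    (hx₀ : ∀ j, aeval x₀ (f j) ∈ Ideal.span {algebraMap A R a ^ (s + dat.N)}) :
    ∃ x : Fin n → R, (∀ l, x l - x₀ l ∈ Ideal.span {algebraMap A R a ^ s}) ∧
      ∀ i, ∑ j, aeval x₀ (dat.L i j) * aeval x (f j) = 0 := by
  classical
  set α := algebraMap A R a
  set N := dat.N
  set r := s + N with hr
  choose y hy using fun j => Ideal.mem_span_singleton'.mp (hx₀ j)
  let J : Fin m → Fin n → R := fun j l => aeval x₀ (pderiv l (f j))
  let L : Fin n → Fin m → R := fun i j => aeval x₀ (dat.L i j)
  have hE : valIdeal f x₀ ≤ Ideal.span {α ^ r} :=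
    Ideal.span_le.mpr (by rintro _ ⟨j, rfl⟩; exact hx₀ j)
  choose Z hZ using fun i l => Ideal.mem_span_singleton'.mp (hE (dat.tangent_eval x₀ i l))
  -- the square system
  let x₁ : Fin n → MvPolynomial (Fin n) R := fun l => C (x₀ l) + C (α ^ s) * X l
  have hev : ∀ p : MvPolynomial (Fin n) A,
      aeval (fun l => (C (x₀ l) : MvPolynomial (Fin n) R)) p = C (aeval x₀ p) := fun p =>
    (Hensel20.jac_map.aux (IsScalarTower.toAlgHom A R (MvPolynomial (Fin n) R)) x₀ p).symm
  have hT : ∀ j, ∃ T : MvPolynomial (Fin n) R,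
      aeval x₁ (f j) = C (aeval x₀ (f j)) + (∑ l, C (J j l) * (C (α ^ s) * X l)) + C (α ^ (2 * s)) * T := by
    intro j
    have h := Hensel20.aeval_add_sub_mem (J := Ideal.span {C (α ^ s)})
      (fun l => (C (x₀ l) : MvPolynomial (Fin n) R)) (fun l => C (α ^ s) * X l)
      (fun l => Ideal.mem_span_singleton'.mpr ⟨X l, mul_comm _ _⟩) (f j)
    rw [Ideal.span_singleton_pow, ← map_pow, ← pow_mul, mul_comm s 2] at h
    obtain ⟨T, hT⟩ := Ideal.mem_span_singleton'.mp h
    refine ⟨T, ?_⟩
    simp only [hev] at hT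
    rw [mul_comm _ T, hT]
    simp only [x₁, J, Pi.add_def]
    ring
  choose T hT using hT
  let b : Fin n → R := fun i => ∑ j, L i j * y j
  let W : Fin n → MvPolynomial (Fin n) R := fun i =>
    C (α ^ (s - 1)) * (∑ l, C (Z i l) * X l) + C (α ^ (2 * s - r - 1)) * ∑ j, C (L i j) * T j
  let G : Fin n → MvPolynomial (Fin n) R := fun i => X i + C (b i) + C α * W i
  have hid : ∀ i, C (α ^ r) * G i = ∑ j, C (L i j) * aeval x₁ (f j) := by
    intro i
    have hfy : ∀ j, C (aeval x₀ (f j)) = (C (α ^ r) * C (y j) : MvPolynomial (Fin n) R) := fun j => by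
      rw [← hy j, ← map_mul, mul_comm]
    have hLJ : ∀ l, ∑ j, (C (L i j) * C (J j l) : MvPolynomial (Fin n) R) =
        C (α ^ r) * C (Z i l) + (if i = l then C (α ^ N) else 0 : MvPolynomial (Fin n) R) := by
      intro l
      have h : ∑ j, L i j * J j l = Z i l * α ^ r + if i = l then α ^ N else 0 :=
        eq_add_of_sub_eq (hZ i l).symm
      rw [show (∑ j, (C (L i j) * C (J j l) : MvPolynomial (Fin n) R)) = C (∑ j, L i j * J j l) by
        simp only [map_sum, map_mul], h, map_add, map_mul, mul_comm (C (Z i l))]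
      congr 1
      split_ifs <;> simp
    have hlin : ∑ j, C (L i j) * (∑ l, C (J j l) * (C (α ^ s) * X l)) =
        C (α ^ (r + s)) * (∑ l, C (Z i l) * X l) + C (α ^ (N + s)) * X i := by
      simp only [Finset.mul_sum]
      rw [Finset.sum_comm]
      have : ∀ l, ∑ j, C (L i j) * (C (J j l) * (C (α ^ s) * X l)) =
          C (α ^ (r + s)) * (C (Z i l) * X l) + if i = l then C (α ^ (N + s)) * X i else 0 := by
        intro l
        simp only [← mul_assoc (C (L i _))]
        rw [← Finset.sum_mul, hLJ, add_mul]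
        congr 1
        · rw [show (C (α ^ (r + s)) : MvPolynomial (Fin n) R) = C (α ^ r) * C (α ^ s) by rw [← map_mul, ← pow_add]]
          ring
        · split_ifs with h
          · subst h
            rw [show (C (α ^ (N + s)) : MvPolynomial (Fin n) R) = C (α ^ N) * C (α ^ s) by rw [← map_mul, ← pow_add]]
            ring
          · rw [zero_mul]
      rw [Finset.sum_congr rfl fun l _ => this l, Finset.sum_add_distrib, Finset.sum_ite_eq,
        if_pos (Finset.mem_univ i)]
    calc C (α ^ r) * G i
        = C (α ^ r) * C (b i) + (C (α ^ (r + s)) * (∑ l, C (Z i l) * X l) + C (α ^ (N + s)) * X i) +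
            C (α ^ (2 * s)) * ∑ j, C (L i j) * T j := by
          have e1 : C (α ^ r) * (C α * C (α ^ (s - 1))) = (C (α ^ (r + s)) : MvPolynomial (Fin n) R) := by
            rw [← map_mul, ← map_mul, ← pow_succ', ← pow_add, show s - 1 + 1 = s by omega]
          have e2 : C (α ^ r) * (C α * C (α ^ (2 * s - r - 1))) = (C (α ^ (2 * s)) : MvPolynomial (Fin n) R) := by
            rw [← map_mul, ← map_mul, ← pow_succ', ← pow_add, show r + (2 * s - r - 1 + 1) = 2 * s by omega]
          rw [show N + s = r by omega, ← e1, ← e2]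
          simp only [G, W]
          ring
      _ = ∑ j, C (L i j) * aeval x₁ (f j) := by
          simp only [hT, mul_add, Finset.sum_add_distrib, hlin]
          congr 1
          · congr 1
            simp only [b, map_sum, Finset.mul_sum, map_mul, hfy]
            exact Finset.sum_congr rfl fun j _ => by ring
          · simp only [Finset.mul_sum]
            exact Finset.sum_congr rfl fun j _ => by ring
  obtain ⟨h, hG⟩ := exists_root_linearised (α := α) b W
  -- it solves the original system
  let x : Fin n → R := fun l => x₀ l + α ^ s * h l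
  have hxx : ∀ l, x l - x₀ l ∈ Ideal.span {α ^ s} := fun l =>
    Ideal.mem_span_singleton'.mpr ⟨h l, by simp [x, mul_comm]⟩
  have hsol : ∀ i, ∑ j, L i j * aeval x (f j) = 0 := by
    intro i
    have e := congrArg (aeval (R := R) h) (hid i)
    rw [map_mul, show aeval h (G i) = 0 from hG i, mul_zero, map_sum] at e
    rw [e]
    refine Finset.sum_congr rfl fun j _ => ?_
    rw [map_mul, aeval_C, Algebra.algebraMap_self, RingHom.id_apply]
    congr 1
    have hx₁ : (fun l => aeval (R := R) h (x₁ l)) = x := funext fun l => by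
      simp only [x₁, x, map_add, map_mul, aeval_C, aeval_X, Algebra.algebraMap_self, RingHom.id_apply]
    rw [← hx₁]
    exact (AlgHom.congr_fun (MvPolynomial.comp_aeval x₁ ((aeval (R := R) h).restrictScalars A)) (f j)).symm
  exact ⟨x, hxx, hsol⟩

/-- The case of a single element: approximate solutions are near exact ones. -/
theorem exists_solution_principal [IsNoetherianRing R] {a : A} (dat : Datum f a)
    [HenselianRing R (Ideal.span {algebraMap A R a})] (k : ℕ) :
    ∃ r : ℕ, k ≤ r ∧ ∀ x₀ : Fin n → R,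
      (∀ j, aeval x₀ (f j) ∈ Ideal.span {algebraMap A R a ^ r}) →
      ∃ x : Fin n → R, (∀ j, aeval x (f j) = 0) ∧ ∀ l, x l - x₀ l ∈ Ideal.span {algebraMap A R a ^ k} := by
  classical
  set α := algebraMap A R a
  set N := dat.N with hN'
  obtain ⟨c, hc⟩ := exists_pow_ann α
  set s := N + 1 + k + c with hs
  refine ⟨s + N, by omega, fun x₀ hx₀ => ?_⟩
  obtain ⟨x, hxx, hsol⟩ := exists_left_solution dat s (by omega) x₀ hx₀
  refine ⟨x, ?_, fun l => Ideal.span_singleton_le_span_singleton.mpr (pow_dvd_pow α (by omega)) (hxx l)⟩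
  have hfs : ∀ j, aeval x (f j) ∈ Ideal.span {α ^ s} := fun j => by
    rw [← sub_add_cancel (aeval x (f j)) (aeval x₀ (f j))]
    exact add_mem (aeval_sub_mem hxx _)
      (Ideal.span_singleton_le_span_singleton.mpr (pow_dvd_pow α (by omega)) (hx₀ j))
  set E := valIdeal f x with hEdef
  have hEs : E ≤ Ideal.span {α ^ s} := Ideal.span_le.mpr (by rintro _ ⟨j, rfl⟩; exact hfs j)
  have hLf : ∀ i, ∑ j, aeval x (dat.L i j) * aeval x (f j) ∈ Ideal.span {α ^ s} * E := fun i => by
    rw [← sub_zero (∑ j, aeval x (dat.L i j) * aeval x (f j)), ← hsol i, ← Finset.sum_sub_distrib]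
    refine sum_mem fun j _ => ?_
    rw [← sub_mul]
    exact Ideal.mul_mem_mul (aeval_sub_mem hxx _) (Ideal.subset_span ⟨j, rfl⟩)
  have hN : Ideal.span {α ^ N} * E ≤ Ideal.span {α ^ s} * E := by
    rw [Ideal.span_singleton_mul_le_iff]
    intro z hz
    induction hz using Submodule.span_induction with
    | mem z hz =>
      obtain ⟨j, rfl⟩ := hz
      rw [← sub_add_cancel (α ^ N * aeval x (f j))
        (∑ l, aeval x (pderiv l (f j)) * (∑ k, aeval x (dat.L l k) * aeval x (f k)))]
      refine add_mem ?_ (sum_mem fun l _ => Ideal.mul_mem_left _ _ (hLf l))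
      exact (sq E).trans_le (Ideal.mul_mono_left hEs) (dat.conormal_eval x j)
    | zero => simp
    | add u v _ _ hu hv => rw [mul_add]; exact add_mem hu hv
    | smul u v _ hv => rw [smul_eq_mul, mul_left_comm]; exact Ideal.mul_mem_left _ _ hv
  have hnull : Ideal.span {α ^ N} * E = ⊥ := by
    refine Submodule.eq_bot_of_le_smul_of_le_jacobson_bot (Ideal.span {α}) _ (IsNoetherian.noetherian _) ?_
      HenselianRing.jac
    refine hN.trans ?_
    rw [smul_eq_mul, ← mul_assoc, Ideal.span_singleton_mul_span_singleton, ← pow_succ']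
    exact Ideal.mul_mono_left (Ideal.span_singleton_le_span_singleton.mpr (pow_dvd_pow α (by omega)))
  intro j
  obtain ⟨z, hz⟩ := Ideal.mem_span_singleton'.mp (hfs j)
  have h0 : α ^ N * aeval x (f j) = 0 := (Submodule.mem_bot R).mp
    (hnull ▸ Ideal.mul_mem_mul (Ideal.mem_span_singleton_self _) (Ideal.subset_span ⟨j, rfl⟩))
  rw [← hz, show α ^ N * (z * α ^ s) = α ^ (N + s) * z by ring] at h0
  have := hc _ z h0
  rw [← hz, show s = c + (N + 1 + k) by omega, pow_add, ← mul_assoc, mul_comm z, this, zero_mul]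

/-- Approximate solutions of a system etale off `V(a₁, …, aₖ)` are near exact ones. -/
theorem exists_solution : ∀ (s : List A), (∀ a ∈ s, Nonempty (Datum f a)) →
    ∀ (R : Type u) [CommRing R] [Algebra A R] [IsNoetherianRing R],
    HenselianRing R ((Ideal.span {z | z ∈ s}).map (algebraMap A R)) → ∀ k : ℕ, ∃ q : ℕ, k ≤ q ∧
      ∀ x₀ : Fin n → R, (∀ j, aeval x₀ (f j) ∈ ((Ideal.span {z | z ∈ s}).map (algebraMap A R)) ^ q) →
        ∃ x : Fin n → R, (∀ j, aeval x (f j) = 0) ∧
          ∀ l, x l - x₀ l ∈ ((Ideal.span {z | z ∈ s}).map (algebraMap A R)) ^ k := by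
  intro s
  induction s with
  | nil =>
    intro _ R _ _ _ _ k
    have h0 : Ideal.span {z : A | z ∈ ([] : List A)} = ⊥ := by simp
    refine ⟨k + 1, by omega, fun x₀ hx₀ => ⟨x₀, fun j => ?_, fun l => by simp⟩⟩
    have h := hx₀ j
    rw [h0, Ideal.map_bot, ← Ideal.zero_eq_bot, zero_pow (by omega), Ideal.zero_eq_bot, Submodule.mem_bot] at h
    exact h
  | cons a s ih =>
    intro hd R _ _ _ hhens k
    haveI := hhens
    set α := algebraMap A R a
    set Js := (Ideal.span {z | z ∈ s}).map (algebraMap A R) with hJs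
    set J := (Ideal.span {z | z ∈ a :: s}).map (algebraMap A R) with hJdef
    have hJ : J = Ideal.span {α} ⊔ Js := by
      rw [hJdef, show {z : A | z ∈ a :: s} = insert a {z | z ∈ s} by ext z; simp, Ideal.span_insert,
        Ideal.map_sup, Ideal.map_span, Set.image_singleton]
    haveI : HenselianRing R (Ideal.span {α}) := Hens22.henselianRing_of_le (J := J) (hJ ▸ le_sup_left)
    obtain ⟨⟨dat⟩⟩ : Nonempty (Nonempty (Datum f a)) := ⟨hd a (List.mem_cons_self ..)⟩
    obtain ⟨r, hkr, hr⟩ := exists_solution_principal (R := R) dat k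
    let K := Ideal.span {α ^ r}
    have hhR' : HenselianRing (R ⧸ K) ((Ideal.span {z | z ∈ s}).map (algebraMap A (R ⧸ K))) := by
      haveI := Hens22.henselianRing_quotient J K
      refine Hens22.henselianRing_of_le (J := J.map (Ideal.Quotient.mk K)) ?_
      rw [IsScalarTower.algebraMap_eq A R (R ⧸ K), ← Ideal.map_map]
      exact Ideal.map_mono (hJ ▸ le_sup_right)
    obtain ⟨q, hkq, hq⟩ := ih (fun z hz => hd z (List.mem_cons_of_mem _ hz)) (R ⧸ K) hhR' k
    refine ⟨r + q, by omega, fun x₀ hx₀ => ?_⟩
    have hmap : (Ideal.span {z | z ∈ s}).map (algebraMap A (R ⧸ K)) = Js.map (Ideal.Quotient.mk K) := by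
      rw [IsScalarTower.algebraMap_eq A R (R ⧸ K), ← Ideal.map_map]; rfl
    have hev : ∀ (z : Fin n → R) (p : MvPolynomial (Fin n) A),
        aeval (fun l => Ideal.Quotient.mk K (z l)) p = Ideal.Quotient.mk K (aeval z p) := fun z p =>
      (Hensel20.jac_map.aux (Ideal.Quotient.mkₐ A K) z p).symm
    obtain ⟨x', hx', hxx'⟩ := hq (fun l => Ideal.Quotient.mk K (x₀ l)) fun j => by
      rw [hev, hmap, ← Ideal.map_pow]
      have hle : J ^ (r + q) ≤ K ⊔ Js ^ q := by
        rw [hJ]
        exact (Ideal.sup_pow_add_le_pow_sup_pow).trans (sup_le_sup_right (Ideal.span_singleton_pow α r).le _)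
      have := Ideal.mem_map_of_mem (Ideal.Quotient.mk K) (hle (hx₀ j))
      rwa [Ideal.map_sup, Ideal.map_quotient_self, bot_sup_eq] at this
    choose z hz using fun l => Ideal.Quotient.mk_surjective (x' l)
    obtain ⟨x, hx, hxz⟩ := hr z fun j => by
      rw [← Ideal.Quotient.eq_zero_iff_mem, ← hev, show (fun l => Ideal.Quotient.mk K (z l)) = x' from funext hz]
      exact hx' j
    refine ⟨x, hx, fun l => ?_⟩
    rw [← sub_add_sub_cancel (x l) (z l) (x₀ l)]
    have hαk : Ideal.span {α ^ k} ≤ J ^ k := by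
      rw [← Ideal.span_singleton_pow]; exact Ideal.pow_right_mono (hJ ▸ le_sup_left) k
    refine add_mem (hαk (hxz l)) ?_
    have h := hxx' l
    rw [← hz l, ← map_sub, hmap, ← Ideal.map_pow, Ideal.mem_quotient_iff_mem_sup] at h
    have hle : Js ^ k ⊔ K ≤ J ^ k := sup_le (Ideal.pow_right_mono (hJ ▸ le_sup_right) k)
      ((Ideal.span_singleton_le_span_singleton.mpr (pow_dvd_pow α hkr)).trans hαk)
    exact hle h

/-- Two close solutions are equal. -/
theorem eq_of_solutions_close [IsNoetherianRing R] (I : Ideal A) (hI : I.FG) (J : Ideal R)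
    (hJ : I.map (algebraMap A R) = J) (hjac : J ≤ Ideal.jacobson ⊥)
    (hdat : ∀ a ∈ I, Nonempty (Datum f a)) :
    ∃ k₀ : ℕ, ∀ x x' : Fin n → R, (∀ j, aeval x (f j) = 0) → (∀ j, aeval x' (f j) = 0) →
      (∀ l, x' l - x l ∈ J ^ k₀) → x = x' := by
  classical
  let dat : ∀ a ∈ I, Datum f a := fun a h => (hdat a h).some
  let P : Ideal R := Ideal.span {z | ∃ a, ∃ h : a ∈ I, algebraMap A R a ^ (dat a h).N = z}
  obtain ⟨M, hM⟩ : ∃ M, J ^ M ≤ P := by
    refine Ideal.exists_pow_le_of_le_radical_of_fg ?_ (IsNoetherian.noetherian J)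
    rw [← hJ, Ideal.map_le_iff_le_comap]
    exact fun a ha => ⟨(dat a ha).N, Ideal.subset_span ⟨a, ha, rfl⟩⟩
  let U : Submodule R R :=
    { carrier := {y | ∀ i ∈ J ^ M, i * y = 0}
      add_mem' := fun {u v} hu hv i hi => by rw [mul_add, hu i hi, hv i hi, add_zero]
      zero_mem' := fun i _ => mul_zero i
      smul_mem' := fun w u hu i hi => by rw [smul_eq_mul, mul_left_comm, hu i hi, mul_zero] }
  obtain ⟨c, hc⟩ := J.exists_pow_inf_eq_pow_smul U
  refine ⟨M + c + 1, fun x x' hx hx' hd => funext fun l => (sub_eq_zero.mp ?_).symm⟩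
  let D := Ideal.span (Set.range fun l => x' l - x l)
  have hDk : D ≤ J ^ (M + c + 1) := Ideal.span_le.mpr (by rintro _ ⟨i, rfl⟩; exact hd i)
  have hE : valIdeal f x = ⊥ := by
    rw [Ideal.span_eq_bot]; rintro _ ⟨j, rfl⟩; exact hx j
  have hPD : P * D ≤ D ^ 2 := by
    rw [Ideal.mul_le]
    intro p hp d hdD
    induction hp using Submodule.span_induction with
    | mem p hp =>
      obtain ⟨a, ha, rfl⟩ := hp
      induction hdD using Submodule.span_induction with
      | mem d hd =>
        obtain ⟨i, rfl⟩ := hd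
        set dt := (dat a ha)
        have hJd : ∀ j, ∑ l, aeval x (pderiv l (f j)) * (x' l - x l) ∈ D ^ 2 := fun j => by
          have h := Hensel20.aeval_add_sub_mem (J := D) x (fun l => x' l - x l)
            (fun l => Ideal.subset_span ⟨l, rfl⟩) (f j)
          rw [show x + (fun l => x' l - x l) = x' by ext l; simp, hx, hx', sub_zero, zero_sub] at h
          exact neg_mem_iff.mp h
        have heq : algebraMap A R a ^ dt.N * (x' i - x i) =
            ∑ j, aeval x (dt.L i j) * ∑ l, aeval x (pderiv l (f j)) * (x' l - x l) := by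
          simp only [Finset.mul_sum]
          rw [Finset.sum_comm]
          simp only [← mul_assoc, ← Finset.sum_mul]
          have hval : ∀ l, ∑ j, aeval x (dt.L i j) * aeval x (pderiv l (f j)) =
              if i = l then algebraMap A R a ^ dt.N else 0 := fun l =>
            sub_eq_zero.mp ((Submodule.mem_bot R).mp (hE ▸ dt.tangent_eval x i l))
          simp [hval, ite_mul]
        rw [heq]
        exact sum_mem fun j _ => Ideal.mul_mem_left _ _ (hJd j)
      | zero => simp
      | add u v _ _ hu hv => rw [mul_add]; exact add_mem hu hv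
      | smul u v _ hv => rw [smul_eq_mul, mul_left_comm]; exact Ideal.mul_mem_left _ _ hv
    | zero => simp
    | add u v _ _ hu hv => rw [add_mul]; exact add_mem hu hv
    | smul u v _ hv => rw [smul_eq_mul, mul_assoc]; exact Ideal.mul_mem_left _ _ hv
  have hnull : J ^ M * D = ⊥ := by
    refine Submodule.eq_bot_of_le_smul_of_le_jacobson_bot J _ (IsNoetherian.noetherian _) ?_ hjac
    refine ((Ideal.mul_mono_left hM).trans hPD).trans ?_
    rw [smul_eq_mul, sq, ← mul_assoc, ← pow_succ']
    exact Ideal.mul_mono_left (hDk.trans (Ideal.pow_le_pow_right (by omega)))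
  have hmem : x' l - x l ∈ (J ^ (M + c + 1) • ⊤ ⊓ U : Submodule R R) := by
    refine ⟨by rw [smul_eq_mul, Ideal.mul_top]; exact hd l, fun i hi => ?_⟩
    exact (Submodule.mem_bot R).mp (hnull ▸ Ideal.mul_mem_mul hi (Ideal.subset_span ⟨l, rfl⟩))
  rw [hc _ (by omega)] at hmem
  refine (Submodule.mem_bot R).mp ((?_ : _ ≤ (⊥ : Submodule R R)) hmem)
  refine Submodule.smul_le.mpr fun i hi u hu => ?_
  rw [Submodule.mem_bot, smul_eq_mul]
  exact hu.2 i (Ideal.pow_le_pow_right (by omega) hi)

end Groth.Agent.Elkik27
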